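import Cfsg.Agent.H47.Fi24.D8.DataT
import Cfsg.Agent.H47.Fi24.D8.DataM
import Cfsg.Agent.H47.Fi24.D8.DataJ

/-!
A checked coset table (generated data).
-/

set_option autoImplicit false
set_option maxRecDepth 100000
set_option linter.all false
set_option Elab.async false

namespace H47.Fi24.D8

open H93.Coset

noncomputable section

noncomputable def tPA0 : ℕ := 0x1bc2001b81001b41001b00001ac5001a86001a47001a46001a010019800019400019050018c60018870018850018000017c00017850017450017060016c70016c00016800016450015c50015860015460015070015010014850014460014050013c60013870013470013440012c50012860012470011c60011870011840011820011450010c6001087001084001046001007001001000f86000f46000f07000f01000e87000e80000e06000dc7000d47000d40000d07000d05000c86000c07000c00000bc7000bc5000b86000b46000ac7000a87000a85000a46000a430009c70009470009450009060009020008870008850008470008060008010007870007460007060007000006870006460006400006050005870005460005050005040004c70004860004450004410004060003850003820003450003020003000002c00002810002410002040001840001830001440001420001010000c0000085000046000007000000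

/-- parents in the tree -/
noncomputable def tPA (c : ℕ) : ℕ := Nat.land (Nat.shiftRight tPA0 (24 * c)) 16777215

def words : List (List ℕ) := [
  [0,0],
  [1,1],
  [2,2],
  [3,3],
  [4,4],
  [5,5],
  [6,6],
  [7,7],
  [1,0,1,0,1,0],
  [2,0,2,0],
  [3,0,3,0],
  [4,0,4,0],
  [5,0,5,0,5,0],
  [6,0,6,0],
  [7,0,7,0],
  [2,1,2,1,2,1],
  [3,1,3,1],
  [4,1,4,1,4,1],
  [5,1,5,1],
  [6,1,6,1],
  [7,1,7,1],
  [3,2,3,2,3,2],
  [4,2,4,2],
  [5,2,5,2],
  [6,2,6,2],
  [7,2,7,2],
  [4,3,4,3],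
  [5,3,5,3],
  [6,3,6,3],
  [7,3,7,3],
  [5,4,5,4],
  [6,4,6,4],
  [7,4,7,4],
  [6,5,6,5,6,5],
  [7,5,7,5],
  [7,6,7,6,7,6],
  [7,6,5,0,1,2,3,4,6,5,0,1,2,3,4,6,5,0,1,2,3,4,6,5,0,1,2,3,4,6,5,0,1,2,3,4,6,5,0,1,2,3,4,6,5,0,1,2,3,4,6,5,0,1,2,3,4,6,5,0,1,2,3,4,7,6,5,0,1,2,3,4,6,5,0,1,2,3,4,6,5,0,1,2,3,4,6,5,0,1,2,3,4,6,5,0,1,2,3,4,6,5,0,1,2,3,4,6,5,0,1,2,3,4,6,5,0,1,2,3,4,6,5,0,1,2,3,4,7,6,5,0,1,2,3,4,6,5,0,1,2,3,4,6,5,0,1,2,3,4,6,5,0,1,2,3,4,6,5,0,1,2,3,4,6,5,0,1,2,3,4,6,5,0,1,2,3,4,6,5,0,1,2,3,4,6,5,0,1,2,3,4],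
  [0],
  [1],
  [2],
  [3],
  [4],
  [5],
  [6]]

/-- the table of the cosets of the subgroup generated by the first eight generators -/
def data : Data := ⟨120, 8, tT, tM, tJ, tPA, words, 37, []⟩

end

end H47.Fi24.D8
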